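import Mathlib

/-!
# NO-3S, `TwoOne` / `CompP`, `k ≥ 2`, `D_x = I`, planes allowed (bb OMEGA #19514), pure form: partial pairs

`H` acts on the elementary abelian 2-group `M`; `L` = the line vectors, `A l`, `I l`, `al l` (`l ∈ L`) the data of
the line `l`.  `Gen` = the fields: `[M, A l] ≤ I l = C_M(A l)`, planes: `m ∈ I l` is symmetric and gives `l + m ∈ L`;
`ti` : the `A l` are TI (section 2 of the text).  Adapted from `TwoOne/TI/Base.lean` (helper614, no plane).
-/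

set_option autoImplicit false
set_option linter.unusedSimpArgs false

namespace Cfsg.Agent.Omega.NO3S.TwoOne.DI

/-- the fields (see the record #19514) -/
structure Gen {M H : Type*} [AddCommGroup M] [Group H] [DistribMulAction H M] (L : Set M) (A : M → Subgroup H)
    (I : M → AddSubgroup M) (al : M → M → H) : Prop where
  two : ∀ m : M, m + m = 0
  zero : (0 : M) ∉ L
  gen : AddSubgroup.closure L = ⊤
  smul : ∀ (h : H) {l : M}, l ∈ L → h • l ∈ L
  trans : ∀ {l m : M}, l ∈ L → m ∈ L → ∃ h : H, h • l = m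
  A_conj : ∀ (h : H) {l : M} {a : H}, l ∈ L → a ∈ A l → h * a * h⁻¹ ∈ A (h • l)
  I_conj : ∀ (h : H) {l u : M}, l ∈ L → u ∈ I l → h • u ∈ I (h • l)
  sq : ∀ {l : M} {a : H}, l ∈ L → a ∈ A l → a * a = 1
  four : ∀ {l : M}, l ∈ L → 4 ≤ Nat.card (A l)
  self : ∀ {l : M}, l ∈ L → l ∈ I l
  comm : ∀ {l : M} {a : H}, l ∈ L → a ∈ A l → ∀ m : M, a • m + m ∈ I l
  fix : ∀ {l : M} {a : H} {u : M}, l ∈ L → a ∈ A l → u ∈ I l → a • u = u
  /-- `A l` is a TI set (section 2) -/
  ti : ∀ {l m : M} {a : H}, l ∈ L → m ∈ L → a ∈ A l → a ∈ A m → a ≠ 1 → l = m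
  /-- planes -/
  ps : ∀ {l m : M}, l ∈ L → m ∈ L → m ∈ I l → l ∈ I m
  /-- planes -/
  pa : ∀ {l m : M}, l ∈ L → m ∈ L → l ≠ m → m ∈ I l → l + m ∈ L
  al_mem : ∀ {l : M}, l ∈ L → ∀ m, al l m ∈ A l
  al_add : ∀ {l : M}, l ∈ L → ∀ m m', al l (m + m') = al l m * al l m'
  al_surj : ∀ {l : M} {a : H}, l ∈ L → a ∈ A l → ∃ m, al l m = a
  al_conj : ∀ {l : M} {h : H}, l ∈ L → h • l = l → ∀ m, al l (h • m) = h * al l m * h⁻¹
  al_ker : ∀ {l : M}, l ∈ L → ∀ m, al l m = 1 ↔ ∀ a ∈ A l, a • m = m ∨ a • m = m + l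
  sy : ∀ {l : M}, l ∈ L → ∀ m m', al l m' • m + m + (al l m • m' + m') = 0 ∨
    al l m' • m + m + (al l m • m' + m') = l
  phi : ∀ {l : M} {a : H}, l ∈ L → a ∈ A l → a ≠ 1 → ∃ e, al l e = 1 ∧ a • e = e + l
  /-- `D_x = I` -/
  fixI : ∀ {l u : M}, l ∈ L → (∀ a ∈ A l, a • u = u) → u ∈ I l
  /-- `|M : C_M(A)| = |A| ^ 2` -/
  cardM : ∀ {l : M}, l ∈ L → Nat.card M ≤ Nat.card (A l) ^ 2 * Nat.card (I l)
  /-- (3.2): ALPHA + (2.1) -/
  alpha : ∀ {l m u : M}, l ∈ L → m ∈ L → m ∉ I l → u ∈ I l → u ∈ I m → u ≠ 0 → al l m • m = m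

namespace Gen

variable {M H : Type*} [AddCommGroup M] [Group H] [DistribMulAction H M] {L : Set M} {A : M → Subgroup H}
    {I : M → AddSubgroup M} {al : M → M → H}

section

variable (G : Gen L A I al)
include G

theorem two_left (x y : M) : x + (x + y) = y := by
  rw [← add_assoc, G.two, zero_add]

theorem inv {l : M} {a : H} (hl : l ∈ L) (ha : a ∈ A l) : a⁻¹ = a :=
  inv_eq_of_mul_eq_one_left (G.sq hl ha)

theorem A_comm {l : M} {a b : H} (hl : l ∈ L) (ha : a ∈ A l) (hb : b ∈ A l) : a * b = b * a := by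
  have h := G.sq hl (mul_mem ha hb)
  calc a * b = (a * b)⁻¹ := (inv_eq_of_mul_eq_one_left h).symm
    _ = b * a := by rw [mul_inv_rev, G.inv hl ha, G.inv hl hb]

/-- conjugate by an involution fixing `l` -/
theorem A_conj' {l : M} {a h : H} (hl : l ∈ L) (ha : a ∈ A l) (hh : h * h = 1) (hhl : h • l = l) :
    h * a * h ∈ A l := by
  have := G.A_conj h hl ha
  rwa [hhl, inv_eq_of_mul_eq_one_left hh] at this

theorem I_conj' {l u : M} {h : H} (hl : l ∈ L) (hu : u ∈ I l) (hhl : h • l = l) : h • u ∈ I l := by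
  have := G.I_conj h hl hu
  rwa [hhl] at this

theorem A_fix {l : M} {a : H} (hl : l ∈ L) (ha : a ∈ A l) : a • l = l := G.fix hl ha (G.self hl)

theorem al_I_one {l u : M} (hl : l ∈ L) (hu : u ∈ I l) : al l u = 1 :=
  (G.al_ker hl u).2 fun _ ha => Or.inl (G.fix hl ha hu)

theorem cent {l : M} {b h : H} (hl : l ∈ L) (hb : b ∈ A l) (h1 : b ≠ 1) (hc : h * b = b * h) : h • l = l := by
  have h2 := G.A_conj h hl hb
  rw [hc, mul_assoc, mul_inv_cancel, mul_one] at h2
  exact G.ti (G.smul h hl) hl h2 hb h1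

/-- the set is not trivial -/
theorem exists_ne [Finite H] {l : M} (hl : l ∈ L) : ∃ a ∈ A l, a ≠ 1 := by
  by_contra hcon
  push Not at hcon
  have : A l = ⊥ := (Subgroup.eq_bot_iff_forall _).2 hcon
  have h4 := G.four hl
  rw [this, Subgroup.card_bot] at h4
  omega

/-- a non trivial homomorphism `A l → {0, v}` kills some `a ≠ 1` -/
theorem exists_kill [Finite H] {l m v : M} (hl : l ∈ L) (hm : ∀ a ∈ A l, a • m = m ∨ a • m = m + v) :
    ∃ a ∈ A l, a ≠ 1 ∧ a • m = m := by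
  by_contra hcon
  push Not at hcon
  have hmv : ∀ a ∈ A l, a ≠ 1 → a • m = m + v := fun a ha h1 => (hm a ha).resolve_left (hcon a ha h1)
  obtain ⟨a, ha, ha1⟩ := G.exists_ne hl
  have key : ∀ b ∈ A l, b = 1 ∨ b = a := by
    intro b hb
    by_cases hb1 : b = 1
    · exact Or.inl hb1
    · right
      by_contra hne
      have hab : a * b ≠ 1 := by
        intro h
        exact hne (by rw [← G.inv hl ha]; exact (inv_eq_of_mul_eq_one_right h).symm)
      have h1 : (a * b) • m = m := by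
        rw [mul_smul, hmv b hb hb1, smul_add, hmv a ha ha1]
        have hv : a • v = v := by
          have h2 := hmv a ha ha1
          have h3 : a • (a • m) = m := by rw [← mul_smul, G.sq hl ha, one_smul]
          rw [h2, smul_add, h2] at h3
          have h4 : v + a • v = 0 := by
            have : m + v + a • v = m + 0 := by rw [h3, add_zero]
            rw [add_assoc] at this
            exact add_left_cancel this
          calc a • v = v + (v + a • v) := (G.two_left v _).symm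
            _ = v := by rw [h4, add_zero]
        rw [hv, add_assoc, G.two, add_zero]
      exact hcon _ (mul_mem ha hb) hab h1
  have h4 := G.four hl
  have : Nat.card (A l) ≤ 2 := by
    have hsub : ((A l : Subgroup H) : Set H) ⊆ {1, a} := fun b hb => key b hb
    calc Nat.card (A l) = Set.ncard ((A l : Subgroup H) : Set H) := Nat.card_coe_set_eq _
      _ ≤ Set.ncard ({1, a} : Set H) := Set.ncard_le_ncard hsub
      _ ≤ 2 := (Set.ncard_insert_le _ _).trans (by rw [Set.ncard_singleton])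
  omega

theorem part_symm [Finite H] {l m : M} {b : H} (hl : l ∈ L) (hm : m ∈ L) (hb : b ∈ A l) (hb1 : b ≠ 1)
    (hbm : b • m = m) : ∃ b' ∈ A m, b' ≠ 1 ∧ b' • l = l := by
  obtain ⟨a, ha, ha1⟩ := G.exists_ne hm
  have hbb := G.sq hl hb
  by_cases hc : a * b = b * a
  · exact ⟨a, ha, ha1, G.cent hl hb hb1 hc⟩
  · have h1 : b * a * b ∈ A m := G.A_conj' hm ha hbb hbm
    refine ⟨a * (b * a * b), mul_mem ha h1, ?_, ?_⟩
    · intro h
      apply hc
      have h2 : b * a * b = a := by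
        have h4 := inv_eq_of_mul_eq_one_right h
        rw [G.inv hm ha] at h4
        exact h4.symm
      calc a * b = b * a * b * b := by rw [h2]
        _ = b * a := by rw [mul_assoc, hbb, mul_one]
    · refine G.cent hl hb hb1 ?_
      have h3 := G.A_comm hm ha h1
      calc a * (b * a * b) * b = a * (b * a) * (b * b) := by group
        _ = a * (b * a * b) * b := by rw [hbb]; simp only [mul_assoc, hbb, mul_one]
        _ = b * a * b * a * b := by rw [h3]
        _ = b * (a * (b * a * b)) := by group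

theorem bb_comm {l m : M} {b b' : H} (hl : l ∈ L) (hm : m ∈ L) (hlm : l ≠ m) (hb : b ∈ A l) (hbm : b • m = m)
    (hb' : b' ∈ A m) (hbl : b' • l = l) : b * b' = b' * b := by
  have hbb := G.sq hl hb
  have hbb' := G.sq hm hb'
  have h1 : b * b' * b ∈ A m := G.A_conj' hm hb' hbb hbm
  have h2 : b' * b * b' ∈ A l := G.A_conj' hl hb hbb' hbl
  have h3 : b * (b' * b * b') ∈ A l := mul_mem hb h2
  have h4 : b * (b' * b * b') ∈ A m := by
    have : b * b' * b * b' ∈ A m := mul_mem h1 hb'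
    simpa only [mul_assoc] using this
  have h5 : b * (b' * b * b') = 1 := by
    by_contra hne
    exact hlm (G.ti hl hm h3 h4 hne)
  calc b * b' = b * b' * (b * (b' * b * b'))⁻¹ := by rw [h5, inv_one, mul_one]
    _ = b * b' * (b'⁻¹ * b⁻¹ * b'⁻¹ * b⁻¹) := by group
    _ = b'⁻¹ * b⁻¹ := by group
    _ = b' * b := by rw [G.inv hl hb, G.inv hm hb']

/-- `[b', a]` for `a ∈ A l`, `b' ∈ A m` fixing `l` -/
theorem bracket {l m : M} {a b' : H} (hl : l ∈ L) (hm : m ∈ L) (ha : a ∈ A l) (hb' : b' ∈ A m)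
    (hbl : b' • l = l) : b' * (a * b' * a) ∈ A l ∧ (b' * (a * b' * a)) • m = m := by
  have hbb' := G.sq hm hb'
  have haa := G.sq hl ha
  have h1 : b' * a * b' ∈ A l := G.A_conj' hl ha hbb' hbl
  have h2 : b' * (a * b' * a) ∈ A l := by
    have := mul_mem h1 ha
    simpa only [mul_assoc] using this
  refine ⟨h2, ?_⟩
  by_cases hb1 : b' = 1
  · subst hb1
    rw [one_mul, mul_one, haa, one_smul]
  · refine G.cent hm hb' hb1 ?_
    have h3 := G.A_comm hl h1 ha
    calc b' * (a * b' * a) * b' = b' * a * b' * a * b' := by group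
      _ = a * (b' * a * b') * b' := by rw [h3]
      _ = a * b' * a * (b' * b') := by group
      _ = b' * b' * (a * b' * a) := by rw [hbb', one_mul, mul_one]
      _ = b' * (b' * (a * b' * a)) := by group

/-- `(CC)` -/
theorem cc {l m : M} {b a' : H} (hl : l ∈ L) (hm : m ∈ L) (hb : b ∈ A l) (hbm : b • m = m) (ha' : a' ∈ A m)
    (e : M) : ((b * (a' * b * a')) • e + e) + (a' • (b • e + e) + (b • e + e)) ∈ I l ⊓ I m := by
  have two := G.two
  have tl := G.two_left
  obtain ⟨f, hf⟩ : ∃ f, f = a' • e + e := ⟨_, rfl⟩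
  obtain ⟨w, hw⟩ : ∃ w, w = b • e + e := ⟨_, rfl⟩
  have hfm : f ∈ I m := hf ▸ G.comm hm ha' e
  have hwl : w ∈ I l := hw ▸ G.comm hl hb e
  obtain ⟨g, hg⟩ : ∃ g, g = b • f + f := ⟨_, rfl⟩
  have hgl : g ∈ I l := hg ▸ G.comm hl hb f
  have hgm : g ∈ I m := hg ▸ add_mem (G.I_conj' hm hfm hbm) hfm
  obtain ⟨v, hv⟩ : ∃ v, v = a' • w + w := ⟨_, rfl⟩
  have hvm : v ∈ I m := hv ▸ G.comm hm ha' w
  obtain ⟨g', hg'⟩ : ∃ g', g' = b • v + v := ⟨_, rfl⟩
  have hgl' : g' ∈ I l := hg' ▸ G.comm hl hb v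
  have hgm' : g' ∈ I m := hg' ▸ add_mem (G.I_conj' hm hvm hbm) hvm
  have e1 : a' • e = e + f := by
    rw [hf]; simp only [add_comm, add_left_comm, two, tl, add_zero]
  have e2 : b • e = e + w := by
    rw [hw]; simp only [add_comm, add_left_comm, two, tl, add_zero]
  have e3 : b • f = f + g := by
    rw [hg]; simp only [add_comm, add_left_comm, two, tl, add_zero]
  have e4 : a' • w = w + v := by
    rw [hv]; simp only [add_comm, add_left_comm, two, tl, add_zero]
  have e5 : b • v = v + g' := by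
    rw [hg']; simp only [add_comm, add_left_comm, two, tl, add_zero]
  have e6 : a' • f = f := G.fix hm ha' hfm
  have e7 : a' • g = g := G.fix hm ha' hgm
  have e8 : b • g = g := G.fix hl hb hgl
  have e9 : b • w = w := G.fix hl hb hwl
  have : (b * (a' * b * a')) • e + e + (a' • (b • e + e) + (b • e + e)) = g + g' := by
    rw [← hw, e4, mul_smul, mul_smul, mul_smul, e1]
    simp only [smul_add, e2, e3, e1, e4, e6, e7, e8, e9, e5]
    simp only [add_assoc, add_comm, add_left_comm, two, tl, add_zero]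
  rw [this]
  exact add_mem ⟨hgl, hgm⟩ ⟨hgl', hgm'⟩

/-- the first map `b ↦ [b, a']` is injective -/
theorem br_inj {l m : M} {a' b b₂ : H} (hl : l ∈ L) (hm : m ∈ L) (ha' : a' ∈ A m) (hal : a' • l ≠ l)
    (hb : b ∈ A l) (hb₂ : b₂ ∈ A l) (h : b * (a' * b * a') = b₂ * (a' * b₂ * a')) : b = b₂ := by
  by_contra hne
  apply hal
  have hbb := G.sq hl hb
  have hbb₂ := G.sq hl hb₂
  have haa := G.sq hm ha'
  have hn1 : b₂ * b ≠ 1 := by
    intro h1
    apply hne
    have := inv_eq_of_mul_eq_one_left h1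
    rw [← this, G.inv hl hb]
  refine G.cent hl (mul_mem hb₂ hb) hn1 ?_
  have h3 : a' * b * a' = b * b₂ * (a' * b₂ * a') := by
    calc a' * b * a' = b * b * (a' * b * a') := by rw [hbb, one_mul]
      _ = b * (b * (a' * b * a')) := by group
      _ = b * b₂ * (a' * b₂ * a') := by rw [h]; group
  calc a' * (b₂ * b) = a' * (b * b₂) := by rw [G.A_comm hl hb₂ hb]
    _ = a' * b * (a' * a') * b₂ := by rw [haa, mul_one]; group
    _ = a' * b * a' * a' * b₂ := by group
    _ = b * b₂ * (a' * b₂ * a') * a' * b₂ := by rw [h3]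
    _ = b * b₂ * a' * b₂ * (a' * a') * b₂ := by group
    _ = b * b₂ * a' * (b₂ * b₂) := by rw [haa, mul_one]; group
    _ = b * b₂ * a' := by rw [hbb₂, mul_one]
    _ = b₂ * b * a' := by rw [G.A_comm hl hb₂ hb]

/-- `|A l| = |A m|` -/
theorem card_A [Finite H] {l m : M} (hl : l ∈ L) (hm : m ∈ L) : Nat.card (A l) ≤ Nat.card (A m) := by
  obtain ⟨h, rfl⟩ := G.trans hl hm
  exact Nat.card_le_card_of_injective (fun a : A l => (⟨h * a * h⁻¹, G.A_conj h hl a.2⟩ : A (h • l)))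
    fun a b hab => Subtype.ext (by simpa using congrArg Subtype.val hab)

theorem card_I [Finite M] {l m : M} (hl : l ∈ L) (hm : m ∈ L) : Nat.card (I l) ≤ Nat.card (I m) := by
  obtain ⟨h, rfl⟩ := G.trans hl hm
  exact Nat.card_le_card_of_injective (fun a : I l => (⟨h • (a : M), G.I_conj h hl a.2⟩ : I (h • l)))
    fun a b hab => Subtype.ext (by simpa using congrArg Subtype.val hab)

/-- not commuting is symmetric -/
theorem exists_move [Finite H] {l m : M} {a : H} (hl : l ∈ L) (hm : m ∈ L) (ha : a ∈ A l) (ham : a • m ≠ m) :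
    ∃ a' ∈ A m, a' • l ≠ l := by
  by_contra hcon
  push Not at hcon
  have hcard := G.card_A hl hm
  let f : A m → A l := fun b' => ⟨b' * (a * b' * a), (G.bracket hl hm ha b'.2 (hcon b' b'.2)).1⟩
  have hf : Function.Injective f := fun x y hxy =>
    Subtype.ext (G.br_inj hm hl ha ham x.2 y.2 (congrArg Subtype.val hxy))
  have hs : Function.Surjective f := (hf.bijective_of_nat_card_le hcard).2
  obtain ⟨x, hx⟩ := hs ⟨a, ha⟩
  apply ham
  have h1 := (G.bracket hl hm ha x.2 (hcon x x.2)).2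
  have h2 : (x : H) * (a * x * a) = a := congrArg Subtype.val hx
  rwa [h2] at h1

/-- the composite `b ↦ [[b, a'], a]` is onto `B` -/
theorem surj [Finite H] {l m : M} {a a' b₀ : H} (hl : l ∈ L) (hm : m ∈ L) (ha : a ∈ A l) (ham : a • m ≠ m)
    (ha' : a' ∈ A m) (hal : a' • l ≠ l) (hb₀ : b₀ ∈ A l) (hbm : b₀ • m = m) :
    ∃ b ∈ A l, b • m = m ∧ (b * (a' * b * a')) ∈ A m ∧ (b * (a' * b * a')) • l = l ∧
      (b * (a' * b * a')) * (a * (b * (a' * b * a')) * a) = b₀ := by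
  let B : Type _ := {b : H // b ∈ A l ∧ b • m = m}
  let B' : Type _ := {b : H // b ∈ A m ∧ b • l = l}
  let f : B → B' := fun b => ⟨b.1 * (a' * b.1 * a'), G.bracket hm hl ha' b.2.1 b.2.2⟩
  let g : B' → B := fun b => ⟨b.1 * (a * b.1 * a), G.bracket hl hm ha b.2.1 b.2.2⟩
  have hf : Function.Injective f := fun x y hxy =>
    Subtype.ext (G.br_inj hl hm ha' hal x.2.1 y.2.1 (congrArg Subtype.val hxy))
  have hg : Function.Injective g := fun x y hxy =>
    Subtype.ext (G.br_inj hm hl ha ham x.2.1 y.2.1 (congrArg Subtype.val hxy))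
  have hs : Function.Surjective (g ∘ f) := Finite.injective_iff_surjective.1 (hg.comp hf)
  obtain ⟨x, hx⟩ := hs ⟨b₀, hb₀, hbm⟩
  exact ⟨x.1, x.2.1, x.2.2, (f x).2.1, (f x).2.2, congrArg Subtype.val hx⟩

/-- `χ_e`: if `e ∈ E l` and `b₀ = [[b, a'], a]` moves `e` then `b` moves `e`, and `[[l, a'], a] ∈ l + (I l ∩ I m)` -/
theorem chi {l m e : M} {a a' b b₀ : H} (hl : l ∈ L) (hm : m ∈ L) (hnp : l ∉ I m) (ha : a ∈ A l)
    (ha' : a' ∈ A m) (hb : b ∈ A l) (hbm' : b • m = m) (hc : (b * (a' * b * a')) ∈ A m)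
    (hcl : (b * (a' * b * a')) • l = l) (hbb : (b * (a' * b * a')) * (a * (b * (a' * b * a')) * a) = b₀)
    (he1 : al l e = 1) (he : b₀ • e = e + l) :
    b • e = e + l ∧ ∃ c ∈ I l ⊓ I m, a • (a' • l + l) + (a' • l + l) = l + c := by
  have two := G.two
  have tl := G.two_left
  have c1 := G.cc hl hm hb hbm' ha' e
  have c2 := G.cc hm hl hc hcl ha e
  rw [hbb, he] at c2
  obtain ⟨v, hv⟩ : ∃ v, v = (b * (a' * b * a')) • e + e := ⟨_, rfl⟩
  rw [← hv] at c1 c2
  rw [inf_comm] at c2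
  have e0 : e + l + e = l := by
    simp only [add_comm, add_left_comm, two, tl, add_zero]
  rw [e0] at c2
  rcases (G.al_ker hl e).1 he1 b hb with h | h
  · exfalso
    rw [h, two, smul_zero, add_zero, add_zero] at c1
    have e1 : a • v = v := G.fix hl ha c1.1
    rw [e1, two, add_zero] at c2
    exact hnp c2.2
  · refine ⟨h, ?_⟩
    have e1 : e + l + e = l := e0
    rw [h, e1] at c1
    obtain ⟨r, hr⟩ : ∃ r, r = a' • l + l := ⟨_, rfl⟩
    rw [← hr] at c1 ⊢
    obtain ⟨c, hc'⟩ : ∃ c, c = v + r := ⟨_, rfl⟩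
    rw [← hc'] at c1
    have e2 : v = r + c := by rw [hc']; simp only [add_comm, add_left_comm, two, tl, add_zero]
    have e3 : a • c = c := G.fix hl ha c1.1
    refine ⟨_, c2, ?_⟩
    rw [e2, smul_add, e3]
    simp only [add_assoc, add_comm, add_left_comm, two, tl, add_zero]

/-- elements of `A l` are separated by `E l` -/
theorem sep {l : M} {b b₀ : H} (hl : l ∈ L) (hb : b ∈ A l) (hb₀ : b₀ ∈ A l) (hb1 : b₀ ≠ 1) (hne : b ≠ b₀) :
    ∃ e, al l e = 1 ∧ b₀ • e = e + l ∧ b • e ≠ e + l := by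
  have two := G.two
  have tl := G.two_left
  have hl0 : ∀ x : M, x + l ≠ x := by
    intro x hx
    have : l = 0 := by
      have h : x + l = x + 0 := by rw [hx, add_zero]
      exact add_left_cancel h
    exact G.zero (this ▸ hl)
  obtain ⟨e₁, h1, h2⟩ := G.phi hl hb₀ hb1
  by_cases h3 : b • e₁ = e₁ + l
  · have hn1 : b * b₀ ≠ 1 := by
      intro h
      apply hne
      have := inv_eq_of_mul_eq_one_left h
      rw [← this, G.inv hl hb₀]
    obtain ⟨e₂, h4, h5⟩ := G.phi hl (mul_mem hb hb₀) hn1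
    have hbl : b • l = l := G.A_fix hl hb
    rcases (G.al_ker hl e₂).1 h4 b₀ hb₀ with h6 | h6
    · have h7 : b • e₂ = e₂ + l := by
        rw [mul_smul, h6] at h5
        exact h5
      refine ⟨e₁ + e₂, ?_, ?_, ?_⟩
      · rw [G.al_add hl, h1, h4, one_mul]
      · rw [smul_add, h2, h6]
        simp only [add_assoc, add_comm, add_left_comm, two, tl, add_zero]
      · rw [smul_add, h3, h7]
        have e : e₁ + l + (e₂ + l) = e₁ + e₂ := by
          simp only [add_assoc, add_comm, add_left_comm, two, tl, add_zero]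
        rw [e]
        exact fun h => hl0 _ h.symm
    · refine ⟨e₂, h4, h6, ?_⟩
      intro h7
      rw [mul_smul, h6, smul_add, h7, hbl, add_assoc, two, add_zero] at h5
      exact hl0 _ h5.symm
  · exact ⟨e₁, h1, h2, h3⟩

/-- `τ = 1`: `[[b₀, a'], a] = b₀` -/
theorem tau [Finite H] {l m : M} {a a' b₀ : H} (hl : l ∈ L) (hm : m ∈ L) (hnp : l ∉ I m) (ha : a ∈ A l)
    (ham : a • m ≠ m) (ha' : a' ∈ A m) (hal : a' • l ≠ l) (hb₀ : b₀ ∈ A l) (hb1 : b₀ ≠ 1) (hbm : b₀ • m = m) :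
    (b₀ * (a' * b₀ * a')) ∈ A m ∧ (b₀ * (a' * b₀ * a')) • l = l ∧
      (b₀ * (a' * b₀ * a')) * (a * (b₀ * (a' * b₀ * a')) * a) = b₀ := by
  obtain ⟨b, hb, hbm', hc, hcl, hbb⟩ := G.surj hl hm ha ham ha' hal hb₀ hbm
  by_cases hne : b = b₀
  · rw [hne] at hc hcl hbb
    exact ⟨hc, hcl, hbb⟩
  · exfalso
    obtain ⟨e, h1, h2, h3⟩ := G.sep hl hb hb₀ hb1 hne
    exact h3 (G.chi hl hm hnp ha ha' hb hbm' hc hcl hbb h1 h2).1

/-- `[[l, a'], a] ∈ l + (I l ∩ I m)` -/
theorem key [Finite H] {l m : M} {a a' b₀ : H} (hl : l ∈ L) (hm : m ∈ L) (hnp : l ∉ I m) (ha : a ∈ A l)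
    (ham : a • m ≠ m) (ha' : a' ∈ A m) (hal : a' • l ≠ l) (hb₀ : b₀ ∈ A l) (hb1 : b₀ ≠ 1) (hbm : b₀ • m = m) :
    ∃ c ∈ I l ⊓ I m, a • (a' • l + l) + (a' • l + l) = l + c := by
  obtain ⟨b, hb, hbm', hc, hcl, hbb⟩ := G.surj hl hm ha ham ha' hal hb₀ hbm
  obtain ⟨e, he1, he⟩ := G.phi hl hb₀ hb1
  exact (G.chi hl hm hnp ha ha' hb hbm' hc hcl hbb he1 he).2

/-- `a a'` maps `l` to `m` -/
theorem aa_smul [Finite H] {l m : M} {a a' b₀ : H} (hl : l ∈ L) (hm : m ∈ L) (hnp : l ∉ I m) (ha : a ∈ A l)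
    (ham : a • m ≠ m) (ha' : a' ∈ A m) (hal : a' • l ≠ l) (hb₀ : b₀ ∈ A l) (hb1 : b₀ ≠ 1) (hbm : b₀ • m = m) :
    a • (a' • l) = m := by
  obtain ⟨h1, h2, h3⟩ := G.tau hl hm hnp ha ham ha' hal hb₀ hb1 hbm
  have haa := G.sq hl ha
  have haa' := G.sq hm ha'
  have hbb := G.sq hl hb₀
  set c := b₀ * (a' * b₀ * a') with hc
  have hcc := G.sq hm h1
  have hab : a * b₀ = b₀ * a := G.A_comm hl ha hb₀
  have e1 : a * c * a = c * b₀ := by
    calc a * c * a = c * c * (a * c * a) := by rw [hcc, one_mul]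
      _ = c * (c * (a * c * a)) := by group
      _ = c * b₀ := by rw [h3]
  have e2 : a' * b₀ * a' = b₀ * c := by
    rw [hc, ← mul_assoc, hbb, one_mul]
  have e3 : (a * a') * b₀ * (a * a')⁻¹ = c := by
    have : (a * a')⁻¹ = a' * a := by rw [mul_inv_rev, G.inv hl ha, G.inv hm ha']
    rw [this]
    calc a * a' * b₀ * (a' * a) = a * (a' * b₀ * a') * a := by group
      _ = a * b₀ * c * a := by rw [e2]; group
      _ = b₀ * (a * c * a) := by rw [hab]; group
      _ = b₀ * (c * b₀) := by rw [e1]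
      _ = b₀ * (b₀ * c) := by rw [G.bb_comm hl hm (fun e => ham (e ▸ G.A_fix hl ha)) hb₀ hbm h1 h2]
      _ = c := by rw [← mul_assoc, hbb, one_mul]
  have h4 : c ∈ A ((a * a') • l) := by
    have := G.A_conj (a * a') hl hb₀
    rwa [e3] at this
  have h5 : c ≠ 1 := by
    intro h
    apply hb1
    rw [← h3, h, one_mul, mul_one, haa]
  have h6 := G.ti (G.smul (a * a') hl) hm h4 h1 h5
  rwa [mul_smul] at h6

/-- `|A l : B| = 2` -/
theorem index_two [Finite H] {l m : M} {a₁ a₂ b₀ : H} (hl : l ∈ L) (hm : m ∈ L) (hnp : l ∉ I m) (h₁ : a₁ ∈ A l)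
    (h₁m : a₁ • m ≠ m) (h₂ : a₂ ∈ A l) (h₂m : a₂ • m ≠ m) (hb₀ : b₀ ∈ A l) (hb1 : b₀ ≠ 1) (hbm : b₀ • m = m) :
    (a₁ * a₂) • m = m := by
  have two := G.two
  have tl := G.two_left
  by_contra h₃m
  obtain ⟨a', ha', hal⟩ := G.exists_move hl hm h₁ h₁m
  obtain ⟨c₁, hc₁, e₁⟩ := G.key hl hm hnp h₁ h₁m ha' hal hb₀ hb1 hbm
  obtain ⟨c₂, hc₂, e₂⟩ := G.key hl hm hnp h₂ h₂m ha' hal hb₀ hb1 hbm
  obtain ⟨c₃, hc₃, e₃⟩ := G.key hl hm hnp (mul_mem h₁ h₂) h₃m ha' hal hb₀ hb1 hbm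
  obtain ⟨r, hr⟩ : ∃ r, r = a' • l + l := ⟨_, rfl⟩
  rw [← hr] at e₁ e₂ e₃
  have f₁ : a₁ • r = r + (l + c₁) := by rw [← e₁]; simp only [add_comm, add_left_comm, two, tl, add_zero]
  have f₂ : a₂ • r = r + (l + c₂) := by rw [← e₂]; simp only [add_comm, add_left_comm, two, tl, add_zero]
  have f₄ : a₁ • l = l := G.A_fix hl h₁
  have f₅ : a₁ • c₂ = c₂ := G.fix hl h₁ hc₂.1
  rw [mul_smul, f₂, smul_add, smul_add, f₁, f₄, f₅] at e₃
  have e₄ : l = c₁ + c₂ + c₃ := by
    have h4 : r + (l + c₁) + (l + c₂) + r = c₁ + c₂ := by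
      simp only [add_assoc, add_comm, add_left_comm, two, tl, add_zero]
    rw [h4] at e₃
    rw [e₃]
    simp only [add_assoc, add_comm, add_left_comm, two, tl, add_zero]
  have h5 : l ∈ I m := by
    rw [e₄]
    exact add_mem (add_mem hc₁.2 hc₂.2) hc₃.2
  exact hnp h5

/-- (3b) -/
theorem b3 [Finite H] {l m : M} {b₀ : H} (hl : l ∈ L) (hm : m ∈ L) (hnp : l ∉ I m) (hex : ∃ a ∈ A l, a • m ≠ m)
    (hb₀ : b₀ ∈ A l) (hb1 : b₀ ≠ 1) (hbm : b₀ • m = m) :
    ∃ c ∈ I l ⊓ I m, (∀ a' ∈ A m, a' • l ≠ l → a' • l = l + m + c) ∧ ∀ a ∈ A l, a • m ≠ m → a • m = m + l + c := by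
  have two := G.two
  have tl := G.two_left
  have main : ∀ a ∈ A l, a • m ≠ m → ∀ a' ∈ A m, a' • l ≠ l →
      ∃ c ∈ I l ⊓ I m, a' • l = l + m + c ∧ a • m = m + l + c := by
    intro a ha ham a' ha' hal
    obtain ⟨c, hc, e⟩ := G.key hl hm hnp ha ham ha' hal hb₀ hb1 hbm
    obtain ⟨r, hr⟩ : ∃ r, r = a' • l + l := ⟨_, rfl⟩
    rw [← hr] at e
    have hrm : r ∈ I m := hr ▸ G.comm hm ha' l
    have e1 : a' • l = l + r := by rw [hr]; simp only [add_comm, add_left_comm, two, tl, add_zero]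
    have e2 : a • r = r + (l + c) := by rw [← e]; simp only [add_comm, add_left_comm, two, tl, add_zero]
    have e3 : a • (a' • l) = r + c := by
      rw [e1, smul_add, e2, G.A_fix hl ha]
      simp only [add_assoc, add_comm, add_left_comm, two, tl, add_zero]
    have h5 : r + c = m := by
      rw [← e3]
      exact G.aa_smul hl hm hnp ha ham ha' hal hb₀ hb1 hbm
    have h6 : r = m + c := by rw [← h5]; simp only [add_assoc, add_comm, add_left_comm, two, tl, add_zero]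
    refine ⟨c, hc, ?_, ?_⟩
    · rw [e1, h6]; simp only [add_assoc]
    · have h7 : m = r + c := h5.symm
      have h8 : a • m = a • r + a • c := by rw [h7, smul_add]
      rw [h8, e2, G.fix hl ha hc.1, h6]
      simp only [add_assoc, add_comm, add_left_comm, two, tl, add_zero]
  obtain ⟨a, ha, ham⟩ := hex
  obtain ⟨a', ha', hal⟩ := G.exists_move hl hm ha ham
  obtain ⟨c, hc, e1, e2⟩ := main a ha ham a' ha' hal
  refine ⟨c, hc, fun x hx hxl => ?_, fun x hx hxm => ?_⟩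
  · obtain ⟨c', hc', e3, e4⟩ := main a ha ham x hx hxl
    rw [e2] at e4
    rw [e3, add_left_cancel e4]
  · obtain ⟨c', hc', e3, e4⟩ := main x hx hxm a' ha' hal
    rw [e1] at e3
    rw [e4, add_left_cancel e3]

/-- (1a): `al l (I m) ≤ B` -/
theorem al_I {l m i : M} {b' : H} (hl : l ∈ L) (hm : m ∈ L) (hb' : b' ∈ A m) (hb1 : b' ≠ 1) (hbl : b' • l = l)
    (hi : i ∈ I m) : al l i • m = m := by
  refine G.cent hm hb' hb1 ?_
  have h1 := G.al_conj hl hbl i
  rw [G.fix hm hb' hi] at h1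
  calc al l i * b' = b' * al l i * b'⁻¹ * b' := by rw [← h1]
    _ = b' * al l i := by group

/-- (3c) -/
theorem c3 [Finite H] {l m m₁ : M} {n : H} (hl : l ∈ L) (hm : m ∈ L) (hnp : l ∉ I m) (hn : n ∈ A l)
    (hnm : n • m = m) (hm₁ : al l m₁ • m ≠ m)
    (hD : ∃ c ∈ I l ⊓ I m, n • m₁ + m₁ = c ∨ n • m₁ + m₁ = c + l) : n = 1 := by
  have two := G.two
  have tl := G.two_left
  by_contra hn1
  obtain ⟨a₁, ha₁e⟩ : ∃ a₁, a₁ = al l m₁ := ⟨_, rfl⟩
  have ha₁ : a₁ ∈ A l := ha₁e ▸ G.al_mem hl m₁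
  rw [← ha₁e] at hm₁
  obtain ⟨a', ha', hal⟩ := G.exists_move hl hm ha₁ hm₁
  -- elements with `al l` in `B`
  have hB : ∀ m₀, al l m₀ • m = m → ∃ c ∈ I l ⊓ I m, n • m₀ + m₀ = c ∨ n • m₀ + m₀ = c + l := by
    intro m₀ h0
    obtain ⟨b, -, -, hb'm, hb'l, hbb⟩ := G.surj hl hm ha₁ hm₁ ha' hal (G.al_mem hl m₀) h0
    obtain ⟨b', hb'e⟩ : ∃ b', b' = b * (a' * b * a') := ⟨_, rfl⟩
    rw [← hb'e] at hb'm hb'l hbb
    obtain ⟨c₀, hc₀⟩ : ∃ c₀, c₀ = b' • m₁ + m₁ := ⟨_, rfl⟩
    have hc₀m : c₀ ∈ I m := hc₀ ▸ G.comm hm hb'm m₁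
    have h1 : al l c₀ = al l m₀ := by
      rw [hc₀, G.al_add hl, G.al_conj hl hb'l, ← ha₁e, G.inv hm hb'm, ← hbb]
      group
    have h2 : al l (m₀ + c₀) = 1 := by
      rw [G.al_add hl, h1, G.sq hl (G.al_mem hl m₀)]
    have h3 := (G.al_ker hl _).1 h2 n hn
    have h4 : n • c₀ + c₀ ∈ I l ⊓ I m :=
      ⟨G.comm hl hn c₀, add_mem (G.I_conj' hm hc₀m hnm) hc₀m⟩
    refine ⟨_, h4, ?_⟩
    rw [smul_add] at h3
    rcases h3 with h3 | h3
    · left
      calc n • m₀ + m₀ = (n • m₀ + n • c₀) + (m₀ + c₀) + (n • c₀ + c₀) := by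
            simp only [add_assoc, add_comm, add_left_comm, two, tl, add_zero]
        _ = _ := by rw [h3, two, zero_add]
    · right
      calc n • m₀ + m₀ = (n • m₀ + n • c₀) + (m₀ + c₀) + (n • c₀ + c₀) := by
            simp only [add_assoc, add_comm, add_left_comm, two, tl, add_zero]
        _ = _ := by
            rw [h3]
            simp only [add_assoc, add_comm, add_left_comm, two, tl, add_zero]
  have hall : ∀ m₀, ∃ c ∈ I l ⊓ I m, n • m₀ + m₀ = c ∨ n • m₀ + m₀ = c + l := by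
    intro m₀
    by_cases h0 : al l m₀ • m = m
    · exact hB m₀ h0
    · have h1 : al l (m₀ + m₁) • m = m := by
        rw [G.al_add hl, ← ha₁e]
        exact G.index_two hl hm hnp (G.al_mem hl m₀) h0 ha₁ hm₁ hn hn1 hnm
      obtain ⟨c, hc, h2⟩ := hB _ h1
      obtain ⟨c', hc', h3⟩ := hD
      have e : n • m₀ + m₀ = (n • (m₀ + m₁) + (m₀ + m₁)) + (n • m₁ + m₁) := by
        rw [smul_add]
        simp only [add_assoc, add_comm, add_left_comm, two, tl, add_zero]
      refine ⟨c + c', add_mem hc hc', ?_⟩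
      rw [e]
      rcases h2 with h2 | h2 <;> rcases h3 with h3 | h3 <;> rw [h2, h3]
      · left; rfl
      · right; simp only [add_assoc, add_comm, add_left_comm, two, tl, add_zero]
      · right; simp only [add_assoc, add_comm, add_left_comm, two, tl, add_zero]
      · left; simp only [add_assoc, add_comm, add_left_comm, two, tl, add_zero]
  -- `n` does not centralise `a'`
  have hna : ¬ a' * n = n * a' := fun h => hal (G.cent hl hn hn1 h)
  have hnn := G.sq hl hn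
  have haa := G.sq hm ha'
  have hc1 : ∀ c ∈ I l ⊓ I m, al m c = 1 := fun c hc => G.al_I_one hm hc.2
  -- `l` is not in `E m`
  have hlE : al m l ≠ 1 := by
    intro h1
    obtain ⟨p, hp⟩ := G.al_surj hm ha'
    obtain ⟨c, hc, h2⟩ := hall p
    have h3 : al m (n • p + p) = 1 := by
      rcases h2 with h2 | h2
      · rw [h2, hc1 c hc]
      · rw [h2, G.al_add hm, hc1 c hc, h1, one_mul]
    rw [G.al_add hm, G.al_conj hm hnm, hp, G.inv hl hn] at h3
    apply hna
    calc a' * n = (n * a' * n * a') * (a' * n) := by rw [h3, one_mul]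
      _ = n * a' * n * (a' * a') * n := by group
      _ = n * a' * (n * n) := by rw [haa]; group
      _ = n * a' := by rw [hnn, mul_one]
  have h2 : n * a' * n ∈ A m := G.A_conj' hm ha' hnn hnm
  have h3 : a' * (n * a' * n) ∈ A m := mul_mem ha' h2
  have h4 : a' * (n * a' * n) ≠ 1 := by
    intro h
    apply hna
    calc a' * n = (a' * (n * a' * n))  * (a' * n) := by rw [h, one_mul]
      _ = (n * a' * n) * a' * (a' * n) := by rw [G.A_comm hm ha' h2]
      _ = n * a' * n * (a' * a') * n := by group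
      _ = n * a' * (n * n) := by rw [haa]; group
      _ = n * a' := by rw [hnn, mul_one]
  obtain ⟨e, he1, he⟩ := G.phi hm h3 h4
  obtain ⟨c, hc, h5⟩ := hall e
  have h6 : al m (n • e + e) = 1 := by
    rw [G.al_add hm, G.al_conj hm hnm, he1]
    group
  have h7 : n • e = e + c := by
    rcases h5 with h5 | h5
    · rw [← h5]; simp only [add_assoc, add_comm, add_left_comm, two, tl, add_zero]
    · exfalso
      rw [h5, G.al_add hm, hc1 c hc, one_mul] at h6
      exact hlE h6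
  have h8 : n • c = c := by
    have h9 : n • (n • e) = e := by rw [← mul_smul, hnn, one_smul]
    rw [h7, smul_add, h7] at h9
    calc n • c = (e + c + n • c) + (e + c) := by
          simp only [add_assoc, add_comm, add_left_comm, two, tl, add_zero]
      _ = c := by rw [h9]; exact tl e c
  have h9 : a' • c = c := G.fix hm ha' hc.2
  have h10 : a' • m = m := G.A_fix hm ha'
  have h11 : (a' * (n * a' * n)) • e = e := by
    rw [mul_smul, mul_smul, mul_smul, h7, smul_add, h9]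
    rcases (G.al_ker hm e).1 he1 a' ha' with h | h
    · rw [h, smul_add, h7, h8, add_assoc, two, add_zero, h]
    · rw [h]
      simp only [smul_add, h7, h8, hnm, h9, h10, h]
      simp only [add_assoc, add_comm, add_left_comm, two, tl, add_zero]
  rw [h11] at he
  have h12 : m = 0 := by
    have : e + 0 = e + m := by rw [add_zero]; exact he
    exact (add_left_cancel this).symm
  exact G.zero (h12 ▸ hm)

end

end Gen

end Cfsg.Agent.Omega.NO3S.TwoOne.DI
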