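import Cfsg.Agent.Omega.NO3S.TwoOne.DI.Main

/-!
# NO-3S, `TwoOne` / `CompP`: `k ≥ 2`, `D_x = I`, with planes is impossible (bb OMEGA #19514, helper969), pure form: END

* `Gen.exists_opp`, `Gen.exists_hyp`, `Gen.card_I_le` : `|I l| ≤ |A l| ^ 2`
* `Gen.exists_common` : (4.1)
* `Gen.false` : the theorem
-/

set_option autoImplicit false
set_option linter.unusedSimpArgs false
set_option linter.dupNamespace false
set_option linter.unusedSectionVars false

namespace Cfsg.Agent.Omega.NO3S.TwoOne.DI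

namespace Gen

variable {M H : Type*} [AddCommGroup M] [Group H] [DistribMulAction H M] [Finite M] [Finite H] {L : Set M}
    {A : M → Subgroup H} {I : M → AddSubgroup M} {al : M → M → H}

variable (G : Gen L A I al)
include G

theorem neg_eq (x : M) : -x = x := neg_eq_of_add_eq_zero_left (G.two x)

theorem al_zero {l : M} (hl : l ∈ L) : al l 0 = 1 := by
  have := G.al_add hl 0 0
  rw [add_zero] at this
  exact (mul_eq_left.1 this.symm)

/-- if all sums of different line vectors are line vectors then `M = L ∪ 0` -/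
theorem all_mem (h : ∀ l ∈ L, ∀ m ∈ L, l ≠ m → l + m ∈ L) (x : M) : x ∈ L ∨ x = 0 := by
  have two := G.two
  have hx' : x ∈ AddSubgroup.closure L := by rw [G.gen]; trivial
  refine AddSubgroup.closure_induction (p := fun x _ => x ∈ L ∨ x = 0) (fun y hy => Or.inl hy)
    (Or.inr rfl) ?_ ?_ hx'
  · rintro y z _ _ (h1 | h1) (h2 | h2)
    · by_cases hyz : y = z
      · right; rw [hyz, two]
      · left; exact h y h1 z h2 hyz
    · left; rw [h2, add_zero]; exact h1
    · left; rw [h1, zero_add]; exact h2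
    · right; rw [h1, h2, add_zero]
  · intro y _ h1
    rwa [G.neg_eq]

/-- OPP pairs exist -/
theorem exists_opp (hL : L.Nonempty) : ∃ l ∈ L, ∃ m ∈ L, m ∉ I l ∧ ∀ b ∈ A l, b • m = m → b = 1 := by
  by_contra hcon
  push Not at hcon
  -- all non coplanar pairs are HYP
  have hsum : ∀ l ∈ L, ∀ m ∈ L, l ≠ m → l + m ∈ L := by
    intro l hl m hm hlm
    by_cases h : m ∈ I l
    · exact G.pa hl hm hlm h
    · obtain ⟨b, hb, hbm, hb1⟩ := hcon l hl m hm h
      exact G.sum_part hl hm (fun h' => h (G.ps hm hl h')) hb hb1 hbm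
  have hall := G.all_mem hsum
  obtain ⟨l, hl⟩ := hL
  obtain ⟨a, ha, ha1⟩ := G.exists_ne hl
  obtain ⟨x, hx⟩ := G.al_surj hl ha
  apply ha1
  rw [← hx]
  rcases hall x with h | h
  · by_cases h' : x ∈ I l
    · exact G.al_I_one hl h'
    · obtain ⟨b, hb, hbm, hb1⟩ := hcon l hl x h h'
      exact (G.d3 hl h (fun h'' => h' (G.ps h hl h'')) hb hb1 hbm).1
  · rw [h, G.al_zero hl]

/-- `|I l| ≤ |A l| ^ 2` -/
theorem card_I_le {p : M} (hp : p ∈ L) : Nat.card (I p) ≤ Nat.card (A p) ^ 2 := by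
  have two := G.two
  obtain ⟨l, hl, m, hm, hnp, ho⟩ := G.exists_opp ⟨p, hp⟩
  have h1 : Nat.card (I l) * Nat.card (I m) ≤ Nat.card M := by
    rw [← Nat.card_prod]
    refine Nat.card_le_card_of_injective (fun x : I l × I m => (x.1 : M) + x.2) ?_
    rintro ⟨⟨a, ha⟩, ⟨b, hb⟩⟩ ⟨⟨c, hc⟩, ⟨d, hd⟩⟩ h
    have h' : a + b = c + d := h
    have e : a + c = b + d := by
      calc a + c = (a + b) + (b + c) := by
            rw [add_assoc, ← add_assoc b b c, two, zero_add]
        _ = (c + d) + (b + c) := by rw [h']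
        _ = (c + c) + (b + d) := by abel
        _ = b + d := by rw [two, zero_add]
    have h0 := G.opp hl hm hnp ho (u := a + c) (add_mem ha hc) (e ▸ add_mem hb hd)
    have e1 : a = c := by
      calc a = a + c + c := by rw [add_assoc, two, add_zero]
        _ = c := by rw [h0, zero_add]
    subst e1
    have e2 : b = d := add_left_cancel h'
    subst e2
    rfl
  have h2 := h1.trans (G.cardM hl)
  have hpos : 0 < Nat.card (I l) := Nat.card_pos
  have h3 : Nat.card (I m) ≤ Nat.card (A l) ^ 2 := by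
    rw [mul_comm (Nat.card (A l) ^ 2)] at h2
    exact Nat.le_of_mul_le_mul_left h2 hpos
  exact (G.card_I hp hm).trans (h3.trans (Nat.pow_le_pow_left (G.card_A hl hp) 2))

/-- HYP pairs exist -/
theorem exists_hyp (hL : L.Nonempty) : ∃ l ∈ L, ∃ m ∈ L, l ∉ I m ∧ ∃ b ∈ A l, b ≠ 1 ∧ b • m = m := by
  have two := G.two
  have tl := G.two_left
  by_contra hcon
  push Not at hcon
  -- all non coplanar pairs are OPP
  have ho : ∀ l ∈ L, ∀ m ∈ L, l ∉ I m → ∀ b ∈ A l, b • m = m → b = 1 := by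
    intro l hl m hm hnp b hb hbm
    by_contra hb1
    exact hcon l hl m hm hnp b hb hb1 hbm
  -- `A m` acts fixed point freely on `I l`
  have hfree : ∀ l ∈ L, ∀ m ∈ L, l ∉ I m → ∀ a ∈ A m, a ≠ 1 → ∀ u ∈ I l, a • u = u → u = 0 := by
    intro l hl m hm hnp a ha ha1 u hu hau
    by_contra hu0
    have hnp' : m ∉ I l := fun h => hnp (G.ps hl hm h)
    have hal : a • l ≠ l := fun h => ha1 (ho m hm l hl hnp' a ha h)
    have haL : a • l ∈ L := G.smul a hl
    have h1 : u ∈ I (a • l) := by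
      have := G.I_conj a hl hu
      rwa [hau] at this
    -- `a l` and `l` are coplanar
    have h2 : a • l ∈ I l := by
      by_contra h2
      obtain ⟨b, hb, hb1, hbm⟩ := G.part_of_inter hl haL h2 hu h1 hu0
      exact hb1 (ho l hl _ haL (fun h => h2 (G.ps haL hl h)) b hb hbm)
    have h3 : a • l + l ∈ I l := add_mem h2 (G.self hl)
    have h4 : a • l + l ∈ I m := G.comm hm ha l
    have h5 := G.opp hl hm hnp' (ho l hl m hm hnp) h3 h4
    apply hal
    calc a • l = a • l + l + l := by rw [add_assoc, two, add_zero]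
      _ = l := by rw [h5, zero_add]
  -- all sums are line vectors
  have hsum : ∀ l ∈ L, ∀ m ∈ L, l ≠ m → l + m ∈ L := by
    intro l hl m hm hlm
    by_cases h : m ∈ I l
    · exact G.pa hl hm hlm h
    · have hnp : l ∉ I m := fun h' => h (G.ps hm hl h')
      have hcard : Nat.card (I m) ≤ Nat.card (A m) := by
        refine (G.card_I hm hl).trans (Nat.card_le_card_of_injective
          (fun i : I l => (⟨al m i, G.al_mem hm i⟩ : A m)) ?_)
        rintro ⟨i, hi⟩ ⟨j, hj⟩ hij
        apply Subtype.ext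
        have hij' : al m i = al m j := congrArg Subtype.val hij
        have h1 : al m (i + j) = 1 := by rw [G.al_add hm, hij', G.sq hm (G.al_mem hm j)]
        obtain ⟨a, ha, ha1, hax⟩ := G.exists_kill hm ((G.al_ker hm _).1 h1)
        have h2 := hfree l hl m hm hnp a ha ha1 _ (add_mem hi hj) hax
        change i = j
        calc i = i + j + j := by rw [add_assoc, two, add_zero]
          _ = j := by rw [h2, zero_add]
      let f : A m → I m := fun a => ⟨(a : H) • l + l, G.comm hm a.2 l⟩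
      have hf : Function.Injective f := by
        rintro ⟨a, ha⟩ ⟨b, hb⟩ hab
        apply Subtype.ext
        have h1 : a • l + l = b • l + l := congrArg Subtype.val hab
        have h2 : a • l = b • l := add_right_cancel h1
        have h3 : (b * a) • l = l := by rw [mul_smul, h2, ← mul_smul, G.sq hm hb, one_smul]
        have h4 := ho m hm l hl h _ (mul_mem hb ha) h3
        have h5 := inv_eq_of_mul_eq_one_right h4
        change a = b
        rw [← h5, G.inv hm hb]
      obtain ⟨⟨a, ha⟩, hx⟩ := (hf.bijective_of_nat_card_le hcard).2 ⟨m, G.self hm⟩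
      have h1 : a • l + l = m := congrArg Subtype.val hx
      have h2 : l + m = a • l := by rw [← h1, add_comm, add_assoc, two, add_zero]
      rw [h2]
      exact G.smul a hl
  have hall := G.all_mem hsum
  obtain ⟨l, hl⟩ := hL
  obtain ⟨a, ha, ha1⟩ := G.exists_ne hl
  obtain ⟨e, he1, he⟩ := G.phi hl ha ha1
  have hl0 : l ≠ 0 := fun e => G.zero (e ▸ hl)
  have hae : a • e ≠ e := by
    intro h
    rw [h] at he
    apply hl0
    have : e + 0 = e + l := by rw [add_zero]; exact he
    exact (add_left_cancel this).symm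
  have he0 : e ≠ 0 := by
    rintro rfl
    exact hae (smul_zero a)
  have heL : e ∈ L := (hall e).resolve_right he0
  have heI : e ∉ I l := fun h => hae (G.fix hl ha h)
  obtain ⟨b, hb, hb1, hbe⟩ := G.exists_kill hl ((G.al_ker hl e).1 he1)
  exact hb1 (ho l hl e heL (fun h => heI (G.ps heL hl h)) b hb hbe)

/-- (4.1): planes on `l`, `(l, v)` HYP: some line vector lies in `I l ∩ I v` -/
theorem exists_common {l v q : M} {b₀ : H} (hl : l ∈ L) (hv : v ∈ L) (hnp : l ∉ I v) (hb₀ : b₀ ∈ A l)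
    (hb1 : b₀ ≠ 1) (hbv : b₀ • v = v) (hq : q ∈ L) (hql : q ≠ l) (hqI : q ∈ I l) : ∃ p ∈ L, p ∈ I l ∧ p ∈ I v := by
  have two := G.two
  have tl := G.two_left
  have hnp' : v ∉ I l := fun h => hnp (G.ps hl hv h)
  by_cases h1 : q ∈ I v
  · exact ⟨q, hq, hqI, h1⟩
  · have h1' : v ∉ I q := fun h => h1 (G.ps hq hv h)
    -- an element of `B_v`
    obtain ⟨b', hb', hb'1, hb'l⟩ := G.part_symm hl hv hb₀ hb1 hbv
    by_cases hO : ∀ b ∈ A v, b • q = q → b = 1
    · -- OPP
      have h2 : b' • q ≠ q := fun h => hb'1 (hO b' hb' h)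
      have h3 : b' • q ∈ I l := G.I_conj' hl hqI hb'l
      refine ⟨b' • q + q, G.sub_pl hl (G.smul b' hq) hq h2 h3 hqI, add_mem h3 hqI, G.comm hv hb' q⟩
    · -- HYP
      push Not at hO
      obtain ⟨b, hb, hbq, hb1'⟩ := hO
      obtain ⟨-, h2, -⟩ := G.d3 hv hq h1' hb hb1' hbq
      obtain ⟨-, h3, -⟩ := G.d3 hv hl hnp' hb' hb'1 hb'l
      have hB : ∀ x ∈ A v, x • l = l → x • q = q := by
        intro x hx hxl
        by_contra hxq
        have h4 : x • q + q = v := by
          rw [h2 x hx hxq]; simp only [add_assoc, add_comm, add_left_comm, two, tl, add_zero]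
        apply hnp'
        rw [← h4]
        exact add_mem (G.I_conj' hl hqI hxl) hqI
      refine ⟨l + q, G.pa hl hq (Ne.symm hql) hqI, add_mem (G.self hl) hqI, G.fixI hv fun x hx => ?_⟩
      by_cases hxl : x • l = l
      · rw [smul_add, hxl, hB x hx hxl]
      · have e1 := h3 x hx hxl
        by_cases hxq : x • q = q
        · exfalso
          obtain ⟨y, hy, hyq⟩ := G.exists_move_self hv h1
          have hyl : y • l ≠ l := fun h => hyq (hB y hy h)
          have h4 : (y * x) • l = l := G.index_two hv hl hnp' hy hyl hx hxl hb' hb'1 hb'l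
          have h5 := hB _ (mul_mem hy hx) h4
          rw [mul_smul, hxq] at h5
          exact hyq h5
        · rw [smul_add, e1, h2 x hx hxq]
          simp only [add_assoc, add_comm, add_left_comm, two, tl, add_zero]

/-- `[M, A l]` -/
def rs (A : M → Subgroup H) (l : M) : AddSubgroup M :=
  AddSubgroup.closure {w | ∃ a ∈ A l, ∃ x : M, w = a • x + x}

omit G [Finite M] [Finite H] in
theorem mem_rs {l : M} {a : H} (ha : a ∈ A l) (x : M) : a • x + x ∈ rs A l :=
  AddSubgroup.subset_closure ⟨a, ha, x, rfl⟩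

theorem rs_card {l m : M} (hl : l ∈ L) (hm : m ∈ L) : Nat.card (rs A l) ≤ Nat.card (rs A m) := by
  obtain ⟨h, rfl⟩ := G.trans hl hm
  refine Nat.card_le_card_of_injective (fun x : rs A l => (⟨h • (x : M), ?_⟩ : rs A (h • l))) ?_
  · obtain ⟨x, hx⟩ := x
    refine AddSubgroup.closure_induction (p := fun x _ => h • x ∈ rs A (h • l)) ?_ ?_ ?_ ?_ hx
    · rintro _ ⟨a, ha, y, rfl⟩
      have h1 := mem_rs (A := A) (G.A_conj h hl ha) (h • y)
      have h2 : (h * a * h⁻¹) • h • y + h • y = h • (a • y + y) := by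
        rw [smul_add, ← mul_smul, ← mul_smul]
        congr 2
        group
      rwa [h2] at h1
    · rw [smul_zero]; exact zero_mem _
    · intro x y _ _ h1 h2
      rw [smul_add]; exact add_mem h1 h2
    · intro x _ h1
      rw [smul_neg]; exact neg_mem h1
  · intro a b hab
    exact Subtype.ext (by simpa using congrArg Subtype.val hab)

theorem rs_le {l : M} (hl : l ∈ L) : rs A l ≤ I l := by
  refine (AddSubgroup.closure_le _).2 ?_
  rintro _ ⟨a, ha, x, rfl⟩
  exact G.comm hl ha x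

theorem rs_le_pl {l m : M} (hl : l ∈ L) (hm : m ∈ L) (hlm : l ≠ m) (hp : m ∈ I l) : rs A l ≤ I m := by
  refine (AddSubgroup.closure_le _).2 ?_
  rintro _ ⟨a, ha, x, rfl⟩
  exact G.res_pl hl hm hlm hp ha x

/-- HYP pairs with a common coplanar line `p`: `I l ≤ I p` -/
theorem le_of_common {l v p : M} {b₀ : H} (hl : l ∈ L) (hv : v ∈ L) (hnp : l ∉ I v) (hb₀ : b₀ ∈ A l)
    (hb1 : b₀ ≠ 1) (hbv : b₀ • v = v) (hp : p ∈ L) (hpl : p ∈ I l) (hpv : p ∈ I v) : I l ≤ I p := by
  have two := G.two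
  have hnp' : v ∉ I l := fun h => hnp (G.ps hl hv h)
  have hpl' : p ≠ l := by rintro rfl; exact hnp hpv
  have hpv' : p ≠ v := by rintro rfl; exact hnp' hpl
  -- `R_p ≤ I l ∩ I v`
  have h1 : rs A p ≤ I l ⊓ I v :=
    le_inf (G.rs_le_pl hp hl hpl' (G.ps hl hp hpl)) (G.rs_le_pl hp hv hpv' (G.ps hv hp hpv))
  -- `R_l ≤ I p`
  have h2 : rs A l ≤ I p := G.rs_le_pl hl hp (Ne.symm hpl') hpl
  -- `I l = R_l + (I l ∩ I v)`
  have h3 : ∀ w ∈ I l, ∃ r ∈ rs A l, w + r ∈ I l ⊓ I v := by
    intro w hw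
    obtain ⟨a, ha, x, hx⟩ := G.res hl hv hnp hb₀ hb1 hbv hw
    exact ⟨_, mem_rs ha x, hx⟩
  -- the cardinalities
  set K := Nat.card (A l) with hK
  set i := Nat.card (I l) with hi
  set c := Nat.card (I l ⊓ I v : AddSubgroup M) with hc
  set r := Nat.card (rs A p) with hr
  have hcpos : 0 < c := Nat.card_pos
  have q1 : K * c ≤ i := G.card_inter hl hv hnp hb₀ hb1 hbv
  have q2 : i ≤ K ^ 2 := G.card_I_le hl
  have q3 : r ≤ c := Nat.card_le_card_of_injective _ (AddSubgroup.inclusion_injective h1)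
  have q4 : i ≤ r * c := by
    have h4 : Nat.card (rs A l) ≤ r := G.rs_card hl hp
    refine le_trans ?_ (Nat.mul_le_mul_right c h4)
    rw [← Nat.card_prod]
    have h5 : ∀ w : I l, ∃ x : rs A l × (I l ⊓ I v : AddSubgroup M), (w : M) = x.1 + x.2 := by
      rintro ⟨w, hw⟩
      obtain ⟨s, hs, hw'⟩ := h3 w hw
      refine ⟨⟨⟨s, hs⟩, ⟨w + s, hw'⟩⟩, ?_⟩
      change w = s + (w + s)
      rw [add_comm w s, ← add_assoc, two, zero_add]
    choose f hf using h5
    refine Nat.card_le_card_of_injective f ?_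
    intro w w' hww
    apply Subtype.ext
    rw [hf w, hf w', hww]
  have q5 : K ≤ r := by
    have : K * c ≤ r * c := q1.trans q4
    exact Nat.le_of_mul_le_mul_right this hcpos
  have hKpos : 0 < K := Nat.card_pos
  have q6 : c ≤ K := by
    have : K * c ≤ K * K := by rw [← pow_two]; exact q1.trans q2
    exact Nat.le_of_mul_le_mul_left this hKpos
  have q7 : c ≤ r := q6.trans q5
  -- `R_p = I l ∩ I v`
  have h6 : rs A p = I l ⊓ I v := by
    have h7 : (rs A p : Set M) = (I l ⊓ I v : AddSubgroup M) := by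
      refine Set.eq_of_subset_of_ncard_le h1 ?_ (Set.toFinite _)
      rw [← Nat.card_coe_set_eq, ← Nat.card_coe_set_eq]
      exact q7
    exact SetLike.coe_injective h7
  intro w hw
  obtain ⟨s, hs, hw'⟩ := h3 w hw
  rw [← h6] at hw'
  have h8 : w + s ∈ I p := G.rs_le hp hw'
  have h9 : w = w + s + s := by rw [add_assoc, two, add_zero]
  rw [h9]
  exact add_mem h8 (h2 hs)

/-- **`k ≥ 2`, `D_x = I`, with planes is impossible** -/
theorem false {l₀ q₀ : M} (hl₀ : l₀ ∈ L) (hq₀ : q₀ ∈ L) (hne : q₀ ≠ l₀) (hpl : q₀ ∈ I l₀) : False := by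
  obtain ⟨l, hl, v, hv, hnp, b₀, hb₀, hb1, hbv⟩ := G.exists_hyp ⟨l₀, hl₀⟩
  have hnp' : v ∉ I l := fun h => hnp (G.ps hl hv h)
  obtain ⟨g, hg⟩ := G.trans hl₀ hl
  have hq : g • q₀ ∈ I l := by
    have := G.I_conj g hl₀ hpl
    rwa [hg] at this
  have hql : g • q₀ ≠ l := by
    intro h
    rw [← hg] at h
    exact hne (smul_left_cancel g h)
  obtain ⟨p, hp, hpl, hpv⟩ := G.exists_common hl hv hnp hb₀ hb1 hbv (G.smul g hq₀) hql hq
  obtain ⟨b', hb', hb'1, hb'l⟩ := G.part_symm hl hv hb₀ hb1 hbv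
  have h1 := G.le_of_common hl hv hnp hb₀ hb1 hbv hp hpl hpv
  have h2 := G.le_of_common hv hl hnp' hb' hb'1 hb'l hp hpv hpl
  -- `I v = I p`
  have h3 : (I v : Set M) = I p := by
    refine Set.eq_of_subset_of_ncard_le h2 ?_ (Set.toFinite _)
    rw [← Nat.card_coe_set_eq, ← Nat.card_coe_set_eq]
    exact G.card_I hp hv
  apply hnp
  have h4 : l ∈ (I p : Set M) := h1 (G.self hl)
  rw [← h3] at h4
  exact h4

end Gen

end Cfsg.Agent.Omega.NO3S.TwoOne.DI
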