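import Cfsg.Agent.Omega.NO3S.TwoOne.DI.Base

/-!
# NO-3S, `TwoOne` / `CompP`: `k ≥ 2`, `D_x = I`, with planes is impossible (bb OMEGA #19514, helper969), pure form

* `Gen.d3` : non coplanar pairs with `A l ∩ H_m ≠ 1` (HYP); `Gen.opp` : the other ones have `I l ∩ I m = 0` (OPP)
* `Gen.res` : `I l = [M, A l] + (I l ∩ I m)` for a HYP pair
* `Gen.comm_pl`, `Gen.res_pl` : coplanar pairs
* `Gen.false` : the theorem
-/

set_option autoImplicit false
set_option linter.unusedSimpArgs false
set_option linter.dupNamespace false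
set_option linter.unusedSectionVars false

namespace Cfsg.Agent.Omega.NO3S.TwoOne.DI

namespace Gen

variable {M H : Type*} [AddCommGroup M] [Group H] [DistribMulAction H M] [Finite M] [Finite H] {L : Set M}
    {A : M → Subgroup H} {I : M → AddSubgroup M} {al : M → M → H}

variable (G : Gen L A I al)
include G

theorem exists_move_self {l m : M} (hl : l ∈ L) (hnp : m ∉ I l) : ∃ a ∈ A l, a • m ≠ m := by
  by_contra hcon
  push Not at hcon
  exact hnp (G.fixI hl hcon)

theorem ne_of_np {l m : M} (hl : l ∈ L) (hnp : l ∉ I m) : l ≠ m := by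
  rintro rfl
  exact hnp (G.self hl)

/-- intersecting non coplanar pairs are partial -/
theorem part_of_inter {l m u : M} (hl : l ∈ L) (hm : m ∈ L) (hnp : m ∉ I l) (hu : u ∈ I l) (hu' : u ∈ I m)
    (hu0 : u ≠ 0) : ∃ b ∈ A l, b ≠ 1 ∧ b • m = m := by
  have h1 := G.alpha hl hm hnp hu hu' hu0
  by_cases h2 : al l m = 1
  · exact G.exists_kill hl ((G.al_ker hl m).1 h2)
  · exact ⟨_, G.al_mem hl m, h2, h1⟩

/-- (3.3), HYP -/
theorem d3 {l m : M} {b₀ : H} (hl : l ∈ L) (hm : m ∈ L) (hnp : l ∉ I m) (hb₀ : b₀ ∈ A l) (hb1 : b₀ ≠ 1)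
    (hbm : b₀ • m = m) : al l m = 1 ∧ (∀ a ∈ A l, a • m ≠ m → a • m = m + l) ∧
      ∀ a' ∈ A m, a' • l ≠ l → a' • l = l + m := by
  have two := G.two
  have tl := G.two_left
  have hnp' : m ∉ I l := fun h => hnp (G.ps hl hm h)
  have hex := G.exists_move_self hl hnp'
  obtain ⟨c, hc, e1, e2⟩ := G.b3 hl hm hnp hex hb₀ hb1 hbm
  obtain ⟨a₁, ha₁, ham₁⟩ := hex
  by_cases hc0 : c = 0
  · subst hc0
    have e3 : ∀ a ∈ A l, a • m ≠ m → a • m = m + l := fun a ha ham => by rw [e2 a ha ham, add_zero]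
    refine ⟨(G.al_ker hl m).2 fun a ha => ?_, e3, fun a' ha' hal => by rw [e1 a' ha' hal, add_zero]⟩
    by_cases h : a • m = m
    · exact Or.inl h
    · exact Or.inr (e3 a ha h)
  · exfalso
    have h1 := G.alpha hl hm hnp' hc.1 hc.2 hc0
    obtain ⟨m₁, hm₁⟩ := G.al_surj hl ha₁
    have h2 := G.sy hl m m₁
    rw [hm₁, e2 a₁ ha₁ ham₁] at h2
    have h3 : al l m = 1 := by
      refine G.c3 hl hm hnp (G.al_mem hl m) h1 (by rw [hm₁]; exact ham₁) ⟨c, hc, ?_⟩
      rcases h2 with h2 | h2
      · right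
        calc al l m • m₁ + m₁ = (m + l + c + m + (al l m • m₁ + m₁)) + (c + l) := by
              simp only [add_assoc, add_comm, add_left_comm, two, tl, add_zero]
          _ = c + l := by rw [h2, zero_add]
      · left
        calc al l m • m₁ + m₁ = (m + l + c + m + (al l m • m₁ + m₁)) + (c + l) := by
              simp only [add_assoc, add_comm, add_left_comm, two, tl, add_zero]
          _ = c := by rw [h2]; simp only [add_comm, add_left_comm, two, tl, add_zero]
    have h4 := (G.al_ker hl m).1 h3 a₁ ha₁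
    rcases h4 with h4 | h4
    · exact ham₁ h4
    · have h5 := e2 a₁ ha₁ ham₁
      rw [h4] at h5
      have h6 : c = 0 := by
        have : m + l + 0 = m + l + c := by rw [add_zero]; exact h5
        exact (add_left_cancel this).symm
      exact hc0 h6

/-- HYP pairs: `l + m ∈ L` -/
theorem sum_part {l m : M} {b₀ : H} (hl : l ∈ L) (hm : m ∈ L) (hnp : l ∉ I m) (hb₀ : b₀ ∈ A l) (hb1 : b₀ ≠ 1)
    (hbm : b₀ • m = m) : l + m ∈ L := by
  obtain ⟨-, h, -⟩ := G.d3 hl hm hnp hb₀ hb1 hbm
  obtain ⟨a, ha, ham⟩ := G.exists_move_self hl (fun h => hnp (G.ps hl hm h))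
  have e : a • m = l + m := by rw [h a ha ham, add_comm]
  exact e ▸ G.smul a hm

/-- OPP pairs -/
theorem opp {l m u : M} (hl : l ∈ L) (hm : m ∈ L) (hnp : m ∉ I l) (ho : ∀ b ∈ A l, b • m = m → b = 1)
    (hu : u ∈ I l) (hu' : u ∈ I m) : u = 0 := by
  by_contra hu0
  obtain ⟨b, hb, hb1, hbm⟩ := G.part_of_inter hl hm hnp hu hu' hu0
  exact hb1 (ho b hb hbm)

/-- `(L ∩ I l) ∪ 0` is a subspace -/
theorem sub_pl {l p q : M} (hl : l ∈ L) (hp : p ∈ L) (hq : q ∈ L) (hpq : p ≠ q) (hpl : p ∈ I l) (hql : q ∈ I l) :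
    p + q ∈ L := by
  by_cases h : q ∈ I p
  · exact G.pa hp hq hpq h
  · have hl0 : l ≠ 0 := fun e => G.zero (e ▸ hl)
    obtain ⟨b, hb, hb1, hbm⟩ := G.part_of_inter hp hq h (G.ps hl hp hpl) (G.ps hl hq hql) hl0
    exact G.sum_part hp hq (fun h' => h (G.ps hq hp h')) hb hb1 hbm

/-- coplanar pairs commute -/
theorem comm_pl {l m : M} {a b : H} (hl : l ∈ L) (hm : m ∈ L) (hlm : l ≠ m) (hp : m ∈ I l) (ha : a ∈ A l)
    (hb : b ∈ A m) : a * b = b * a :=
  G.bb_comm hl hm hlm ha (G.fix hl ha hp) hb (G.fix hm hb (G.ps hl hm hp))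

/-- coplanar pairs: `[M, A l] ≤ I m` -/
theorem res_pl {l m : M} {a : H} (hl : l ∈ L) (hm : m ∈ L) (hlm : l ≠ m) (hp : m ∈ I l) (ha : a ∈ A l) (x : M) :
    a • x + x ∈ I m := by
  have two := G.two
  have tl := G.two_left
  have hp' := G.ps hl hm hp
  have ham : a • m = m := G.fix hl ha hp
  have hl0 : l ≠ 0 := fun e => G.zero (e ▸ hl)
  have hm0 : m ≠ 0 := fun e => G.zero (e ▸ hm)
  -- `al m (a x + x) = 1`
  have key : ∀ {l m : M} {a : H}, l ∈ L → m ∈ L → l ≠ m → m ∈ I l → a ∈ A l → ∀ x, al m (a • x + x) = 1 := by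
    intro l m a hl hm hlm hp ha x
    have h1 := G.comm_pl hl hm hlm hp ha (G.al_mem hm x)
    rw [G.al_add hm, G.al_conj hm (G.fix hl ha hp), h1, mul_inv_cancel_right, G.sq hm (G.al_mem hm x)]
  refine G.fixI hm fun b hb => ?_
  have hbl : b • l = l := G.fix hm hb hp'
  rcases (G.al_ker hm _).1 (key hl hm hlm hp ha x) b hb with h | h
  · exact h
  · exfalso
    have e1 : b • (a • x + x) + (a • x + x) = m := by
      rw [h]; simp only [add_assoc, add_comm, add_left_comm, two, tl, add_zero]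
    have e2 : b • (a • x + x) + (a • x + x) = a • (b • x + x) + (b • x + x) := by
      simp only [smul_add]
      rw [← mul_smul, ← mul_smul, G.comm_pl hl hm hlm hp ha hb]
      simp only [add_assoc, add_comm, add_left_comm]
    rw [e2] at e1
    rcases (G.al_ker hl _).1 (key hm hl (Ne.symm hlm) hp' hb x) a ha with h' | h'
    · rw [h', two] at e1
      exact hm0 e1.symm
    · have e3 : a • (b • x + x) + (b • x + x) = l := by
        rw [h']; simp only [add_assoc, add_comm, add_left_comm, two, tl, add_zero]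
      exact hlm (e3 ▸ e1)

/-- HYP pairs: `I l = [M, A l] + (I l ∩ I m)` -/
theorem res {l m w : M} {b₀ : H} (hl : l ∈ L) (hm : m ∈ L) (hnp : l ∉ I m) (hb₀ : b₀ ∈ A l) (hb1 : b₀ ≠ 1)
    (hbm : b₀ • m = m) (hw : w ∈ I l) : ∃ a ∈ A l, ∃ x, w + (a • x + x) ∈ I l ⊓ I m := by
  have two := G.two
  have tl := G.two_left
  obtain ⟨-, h1, h2⟩ := G.d3 hl hm hnp hb₀ hb1 hbm
  obtain ⟨a, ha, ham⟩ := G.exists_move_self hl (fun h => hnp (G.ps hl hm h))
  obtain ⟨a', ha', hal⟩ := G.exists_move_self hm hnp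
  have e1 := h1 a ha ham
  have e2 := h2 a' ha' hal
  have haa := G.sq hl ha
  have haa' := G.sq hm ha'
  have e3 := G.A_fix hl ha
  have e4 := G.A_fix hm ha'
  obtain ⟨s, hs⟩ : ∃ s, s = a * a' := ⟨_, rfl⟩
  have hs' : s⁻¹ = a' * a := by rw [hs, mul_inv_rev, G.inv hl ha, G.inv hm ha']
  have sl : s • l = m := by
    rw [hs, mul_smul, e2, smul_add, e1, e3]
    simp only [add_assoc, add_comm, add_left_comm, two, tl, add_zero]
  have sm : s • m = m + l := by rw [hs, mul_smul, e4, e1]
  have s3l : (s * s * s) • l = l := by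
    rw [mul_smul, mul_smul, sl, sm, smul_add, sm, sl]
    simp only [add_assoc, add_comm, add_left_comm, two, tl, add_zero]
  have s3m : (s * s * s) • m = m := by
    rw [mul_smul, mul_smul, sm, smul_add, sm, sl, smul_add, smul_add, sm, sl]
    simp only [add_assoc, add_comm, add_left_comm, two, tl, add_zero]
  -- `s ^ 6 = 1`
  have h6 : s * s * s * (s * s * s) = 1 := by
    by_contra hne
    have ea : s * s * s * a * (s * s * s)⁻¹ = s * s * s * (s * s * s) * a := by
      have : a * s⁻¹ = s * a := by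
        rw [hs', hs]; group
      calc s * s * s * a * (s * s * s)⁻¹ = s * s * s * (a * s⁻¹) * s⁻¹ * s⁻¹ := by group
        _ = s * s * s * (s * a) * s⁻¹ * s⁻¹ := by rw [this]
        _ = s * s * s * s * (a * s⁻¹) * s⁻¹ := by group
        _ = s * s * s * s * (s * a) * s⁻¹ := by rw [this]
        _ = s * s * s * s * s * (a * s⁻¹) := by group
        _ = s * s * s * s * s * (s * a) := by rw [this]
        _ = s * s * s * (s * s * s) * a := by group
    have ea' : s * s * s * a' * (s * s * s)⁻¹ = s * s * s * (s * s * s) * a' := by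
      have : a' * s⁻¹ = s * a' := by
        rw [hs', hs, ← mul_assoc, haa', one_mul, mul_assoc, haa', mul_one]
      calc s * s * s * a' * (s * s * s)⁻¹ = s * s * s * (a' * s⁻¹) * s⁻¹ * s⁻¹ := by group
        _ = s * s * s * (s * a') * s⁻¹ * s⁻¹ := by rw [this]
        _ = s * s * s * s * (a' * s⁻¹) * s⁻¹ := by group
        _ = s * s * s * s * (s * a') * s⁻¹ := by rw [this]
        _ = s * s * s * s * s * (a' * s⁻¹) := by group
        _ = s * s * s * s * s * (s * a') := by rw [this]
        _ = s * s * s * (s * s * s) * a' := by group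
    have m1 := G.A_conj (s * s * s) hl ha
    rw [s3l, ea] at m1
    have m2 := G.A_conj (s * s * s) hm ha'
    rw [s3m, ea'] at m2
    have m3 := mul_mem m1 ha
    have m4 := mul_mem m2 ha'
    rw [mul_assoc, haa, mul_one] at m3
    rw [mul_assoc, haa', mul_one] at m4
    exact G.ne_of_np hl hnp (G.ti hl hm m3 m4 hne)
  obtain ⟨x, hx⟩ : ∃ x, x = (s * s) • w := ⟨_, rfl⟩
  -- `a s² w = s⁴ w`
  have haw : a • w = w := G.fix hl ha hw
  have e5 : a • x = (s * s * s * s) • w := by
    have h7 : a * (s * s) = (s * s * s * s) * a := by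
      have h8 : a * s = s⁻¹ * a := by
        rw [hs', hs, ← mul_assoc, haa, one_mul, mul_assoc, haa, mul_one]
      have h9 : s⁻¹ * s⁻¹ = s * s * s * s := by
        have : s * s * s * s * (s * s) = 1 := by
          rw [← h6]; group
        have h10 := eq_inv_of_mul_eq_one_left this
        rw [h10, mul_inv_rev]
      calc a * (s * s) = a * s * s := by group
        _ = s⁻¹ * a * s := by rw [h8]
        _ = s⁻¹ * (a * s) := by group
        _ = s⁻¹ * (s⁻¹ * a) := by rw [h8]
        _ = s⁻¹ * s⁻¹ * a := by group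
        _ = _ := by rw [h9]
    rw [hx, ← mul_smul, h7, mul_smul, haw]
  refine ⟨a, ha, x, ?_, ?_⟩
  · exact add_mem hw (G.comm hl ha x)
  · -- `w₀ = w + s² w + s⁴ w` is fixed by `s²`, `s⁴ l = m`
    have h7 : w + (a • x + x) = (s * s * s * s) • (w + (a • x + x)) := by
      rw [e5, hx, smul_add, smul_add, ← mul_smul, ← mul_smul]
      have h8 : s * s * s * s * (s * s * s * s) = s * s := by
        calc s * s * s * s * (s * s * s * s) = s * s * s * (s * s * s) * (s * s) := by group
          _ = s * s := by rw [h6, one_mul]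
      have h9 : s * s * s * s * (s * s) = 1 := by rw [← h6]; group
      rw [h8, h9, one_smul]
      simp only [add_assoc, add_comm, add_left_comm]
    have h8 : (s * s * s * s) • l = m := by
      calc (s * s * s * s) • l = s • ((s * s * s) • l) := by rw [← mul_smul]; congr 1; group
        _ = m := by rw [s3l, sl]
    have h9 := G.I_conj (s * s * s * s) hl (add_mem hw (G.comm hl ha x))
    rw [h8, ← h7] at h9
    exact h9

/-- HYP pairs: `|A| |I l ∩ I m| ≤ |I l|` -/
theorem card_inter {l m : M} {b₀ : H} (hl : l ∈ L) (hm : m ∈ L) (hnp : l ∉ I m) (hb₀ : b₀ ∈ A l) (hb1 : b₀ ≠ 1)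
    (hbm : b₀ • m = m) : Nat.card (A l) * Nat.card (I l ⊓ I m : AddSubgroup M) ≤ Nat.card (I l) := by
  classical
  have two := G.two
  have tl := G.two_left
  obtain ⟨a₁, ha₁, ham₁⟩ := G.exists_move_self hl (fun h => hnp (G.ps hl hm h))
  obtain ⟨m₁, hm₁⟩ := G.al_surj hl ha₁
  have hi2 : ∀ a ∈ A l, a • m ≠ m → (a * a₁) • m = m := fun a ha h =>
    G.index_two hl hm hnp ha h ha₁ ham₁ hb₀ hb1 hbm
  -- the map
  let f : A l × (I l ⊓ I m : AddSubgroup M) → I l := fun x =>
    if (x.1 : H) • m = m then ⟨((x.1 : H) • m₁ + m₁) + x.2, add_mem (G.comm hl x.1.2 m₁) x.2.2.1⟩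
    else ⟨((x.1 * a₁ : H) • m₁ + m₁) + l + x.2,
      add_mem (add_mem (G.comm hl (mul_mem x.1.2 ha₁) m₁) (G.self hl)) x.2.2.1⟩
  have hf : Function.Injective f := by
    -- additivity of `b ↦ [m₁, b]`
    have hadd : ∀ b ∈ A l, ∀ b' ∈ A l, (b * b') • m₁ + m₁ = (b • m₁ + m₁) + (b' • m₁ + m₁) := by
      intro b hb b' hb'
      have h1 : b • (b' • m₁ + m₁) = b' • m₁ + m₁ := G.fix hl hb (G.comm hl hb' m₁)
      have h2 : b' • m₁ = (b' • m₁ + m₁) + m₁ := by rw [add_assoc, two, add_zero]
      calc (b * b') • m₁ + m₁ = b • ((b' • m₁ + m₁) + m₁) + m₁ := by rw [← h2, ← mul_smul]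
        _ = (b' • m₁ + m₁) + b • m₁ + m₁ := by rw [smul_add, h1]
        _ = _ := by simp only [add_assoc, add_comm, add_left_comm]
    -- the kernel
    have hker : ∀ n ∈ A l, n • m = m → ∀ c ∈ I l ⊓ I m, (n • m₁ + m₁ = c ∨ n • m₁ + m₁ = c + l) →
        n = 1 ∧ ((n • m₁ + m₁ = c → c = 0) ∧ (n • m₁ + m₁ ≠ c + l)) := by
      intro n hn hnm c hc hD
      have h1 := G.c3 hl hm hnp hn hnm (by rw [hm₁]; exact ham₁) ⟨c, hc, hD⟩
      subst h1
      refine ⟨rfl, fun h => ?_, fun h => ?_⟩
      · rw [one_smul, two] at h; exact h.symm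
      · rw [one_smul, two] at h
        apply hnp
        have h2 : l = c := by
          calc l = c + (c + l) := (tl c l).symm
            _ = c := by rw [← h, add_zero]
        rw [h2]; exact hc.2
    rintro ⟨⟨a, ha⟩, ⟨c, hc⟩⟩ ⟨⟨b, hb⟩, ⟨d, hd⟩⟩ hab
    have hcd : c + d ∈ I l ⊓ I m := add_mem hc hd
    have fin : ∀ {x y : H}, x ∈ A l → y ∈ A l → x • m = m → y • m = m → (x • m₁ + m₁) + (y • m₁ + m₁) = c + d →
        x = y ∧ c = d := by
      intro x y hx hy hxm hym h
      have h1 : (x * y) • m₁ + m₁ = c + d := by rw [hadd x hx y hy, h]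
      have h2 := hker (x * y) (mul_mem hx hy) (by rw [mul_smul, hym, hxm]) (c + d) hcd (Or.inl h1)
      have h3 := h2.2.1 h1
      refine ⟨?_, ?_⟩
      · rw [← G.inv hl hy]
        exact eq_inv_of_mul_eq_one_left h2.1
      · calc c = c + d + d := by rw [add_assoc, two, add_zero]
          _ = d := by rw [h3, zero_add]
    have nof : ∀ {x y : H}, x ∈ A l → y ∈ A l → x • m = m → y • m = m → (x • m₁ + m₁) + (y • m₁ + m₁) = c + d + l →
        False := by
      intro x y hx hy hxm hym h
      have h1 : (x * y) • m₁ + m₁ = c + d + l := by rw [hadd x hx y hy, h]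
      exact (hker (x * y) (mul_mem hx hy) (by rw [mul_smul, hym, hxm]) (c + d) hcd (Or.inr h1)).2.2 h1
    by_cases h1 : a • m = m
    · by_cases h2 : b • m = m
      · have h3 : (a • m₁ + m₁) + c = (b • m₁ + m₁) + d := by
          have := congrArg Subtype.val hab
          simpa only [f, h1, h2, if_true] using this
        have h4 : (a • m₁ + m₁) + (b • m₁ + m₁) = c + d := by
          calc (a • m₁ + m₁) + (b • m₁ + m₁) = ((a • m₁ + m₁) + c) + (b • m₁ + m₁) + c := by
                simp only [add_assoc, add_comm, add_left_comm, two, tl, add_zero]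
            _ = c + d := by
                rw [h3]; simp only [add_assoc, add_comm, add_left_comm, two, tl, add_zero]
        obtain ⟨h5, h6⟩ := fin ha hb h1 h2 h4
        subst h5; subst h6; rfl
      · exfalso
        have h3 : (a • m₁ + m₁) + c = ((b * a₁) • m₁ + m₁) + l + d := by
          have := congrArg Subtype.val hab
          simpa only [f, h1, h2, if_true, if_false] using this
        refine nof ha (mul_mem hb ha₁) h1 (hi2 b hb h2) ?_
        calc (a • m₁ + m₁) + ((b * a₁) • m₁ + m₁) = ((a • m₁ + m₁) + c) + ((b * a₁) • m₁ + m₁) + c := by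
              simp only [add_assoc, add_comm, add_left_comm, two, tl, add_zero]
          _ = _ := by
              rw [h3]; simp only [add_assoc, add_comm, add_left_comm, two, tl, add_zero]
    · by_cases h2 : b • m = m
      · exfalso
        have h3 : ((a * a₁) • m₁ + m₁) + l + c = (b • m₁ + m₁) + d := by
          have := congrArg Subtype.val hab
          simpa only [f, h1, h2, if_true, if_false] using this
        refine nof (mul_mem ha ha₁) hb (hi2 a ha h1) h2 ?_
        calc ((a * a₁) • m₁ + m₁) + (b • m₁ + m₁)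
            = (((a * a₁) • m₁ + m₁) + l + c) + (b • m₁ + m₁) + (c + l) := by
              simp only [add_assoc, add_comm, add_left_comm, two, tl, add_zero]
          _ = _ := by
              rw [h3]; simp only [add_assoc, add_comm, add_left_comm, two, tl, add_zero]
      · have h3 : ((a * a₁) • m₁ + m₁) + l + c = ((b * a₁) • m₁ + m₁) + l + d := by
          have := congrArg Subtype.val hab
          simpa only [f, h1, h2, if_false] using this
        have h4 : ((a * a₁) • m₁ + m₁) + ((b * a₁) • m₁ + m₁) = c + d := by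
          calc ((a * a₁) • m₁ + m₁) + ((b * a₁) • m₁ + m₁)
              = (((a * a₁) • m₁ + m₁) + l + c) + ((b * a₁) • m₁ + m₁) + (c + l) := by
                simp only [add_assoc, add_comm, add_left_comm, two, tl, add_zero]
            _ = c + d := by
                rw [h3]; simp only [add_assoc, add_comm, add_left_comm, two, tl, add_zero]
        obtain ⟨h5, h6⟩ := fin (mul_mem ha ha₁) (mul_mem hb ha₁) (hi2 a ha h1) (hi2 b hb h2) h4
        have h7 : a = b := mul_right_cancel h5
        subst h7; subst h6; rfl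
  have := Nat.card_le_card_of_injective f hf
  rwa [Nat.card_prod] at this

end Gen

end Cfsg.Agent.Omega.NO3S.TwoOne.DI
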